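import Groth.Agent.Lefpen.H621.SigmaAlg
import Groth.Agent.Lefpen.H713.Trait3
import Groth.Agent.Sga7.H734.Inert

/-!
# An inertia element exchanging the two roots of `z ^ 2 + b z + c`

`exists_sigma` (subtask 955 of S4043): `R ⊂ W` the strict henselization of the line at a point, `b c ∈ m_R`,
`c ∉ m_R ^ 2`, `b ^ 2 - 4 c ≠ 0`.
-/

set_option autoImplicit false
universe u
open CategoryTheory CategoryTheory.Limits AlgebraicGeometry IsLocalRing
open Groth.Agent.Lefpen.H713.Trait1

namespace Groth.Agent.Lefpen.H621.Sigma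

/-- An automorphism over the fraction field of the trait is an automorphism over `k(t)`, and lies in the
inertia group at `W`. -/
theorem exists_algEquiv_ratFunc (k : Type u) [Field k] [IsAlgClosed k] (a : k) {Ω : Type u} [Field Ω]
    [Algebra (RatFunc k) Ω] [IsSepClosure (RatFunc k) Ω] (W : ValuationSubring Ω)
    (R : Type u) [CommRing R] [IsDomain R] [IsDiscreteValuationRing R] [Algebra k R] [Algebra R Ω]
    (t : R) (h : IsTraitIn k a W R t) (K : Type u) [Field K] [Algebra R K] [IsFractionRing R K]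
    [Algebra K Ω] [IsScalarTower R K Ω] (s : Ω ≃ₐ[K] Ω) :
    ∃ σ : Ω ≃ₐ[RatFunc k] Ω, SGA7.IsInertia W σ ∧ ∀ x, σ x = s x := by
  have hfix : ∀ r : R, s (algebraMap R Ω r) = algebraMap R Ω r := by
    intro r
    rw [IsScalarTower.algebraMap_apply R K Ω, s.commutes]
  have h1 : (s : Ω →+* Ω).comp (algebraMap (RatFunc k) Ω) = algebraMap (RatFunc k) Ω := by
    apply IsLocalization.ringHom_ext (nonZeroDivisors (Polynomial k))
    apply Polynomial.ringHom_ext
    · intro x
      have h2 : algebraMap (Polynomial k) (RatFunc k) (Polynomial.C x) = RatFunc.C x :=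
        RatFunc.algebraMap_C x
      change s (algebraMap (RatFunc k) Ω (algebraMap (Polynomial k) (RatFunc k) (Polynomial.C x))) =
        algebraMap (RatFunc k) Ω (algebraMap (Polynomial k) (RatFunc k) (Polynomial.C x))
      rw [h2, ← h.const, hfix]
    · change s (algebraMap (RatFunc k) Ω (algebraMap (Polynomial k) (RatFunc k) Polynomial.X)) =
        algebraMap (RatFunc k) Ω (algebraMap (Polynomial k) (RatFunc k) Polynomial.X)
      rw [RatFunc.algebraMap_X, ← h.gen, hfix]
  let σ : Ω ≃ₐ[RatFunc k] Ω :=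
    { (s : Ω ≃+* Ω) with commutes' := fun x => congrArg (fun g => g x) h1 }
  have hσ : ∀ x, σ x = s x := fun _ => rfl
  refine ⟨σ, ?_, hσ⟩
  have hens : HenselianLocalRing R := h.strictLoc.henselian
  have hsc : IsSepClosed (ResidueField R) := h.strictLoc.sepClosed
  have hK : IsSepClosure K Ω := h.isSepClosure K
  have hs : Algebra.IsSeparable K Ω := IsSepClosure.separable
  have hW : SGA7.LiesOver K R W := by
    refine ⟨fun r => ?_, fun r hr => ?_⟩
    · rw [← IsScalarTower.algebraMap_apply R K Ω]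
      exact h.memW r
    · rw [← IsScalarTower.algebraMap_apply R K Ω]
      exact h.loc r hr
  intro x hx
  rw [hσ]
  exact Groth.Agent.Sga7.H734.Inert.isInertia (R := R) W hW s x hx

/-- (K) -/
theorem exists_sigma (k : Type u) [Field k] [IsAlgClosed k] (a : k) {Ω : Type u} [Field Ω]
    [Algebra (RatFunc k) Ω] [IsSepClosure (RatFunc k) Ω] (W : ValuationSubring Ω)
    (R : Type u) [CommRing R] [IsDomain R] [IsDiscreteValuationRing R] [Algebra k R] [Algebra R Ω]
    (t : R) (h : IsTraitIn k a W R t) (b c : R) (hb : b ∈ maximalIdeal R) (hc : c ∈ maximalIdeal R)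
    (hc2 : c ∉ maximalIdeal R ^ 2) (hd : b ^ 2 - 4 * c ≠ 0) :
    ∃ (α β : Ω) (σ : Ω ≃ₐ[RatFunc k] Ω), SGA7.IsInertia W σ ∧ α + β = - algebraMap R Ω b ∧
      α * β = algebraMap R Ω c ∧ α ≠ β ∧ σ α = β ∧ σ β = α := by
  let K := FractionRing R
  let φ : K →+* Ω := IsFractionRing.lift h.inj
  let : Algebra K Ω := φ.toAlgebra
  have tow : IsScalarTower R K Ω := IsScalarTower.of_algebraMap_eq fun r =>
    (IsFractionRing.lift_algebraMap h.inj r).symm
  have hK : IsSepClosure K Ω := h.isSepClosure K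
  have hd' : (algebraMap R K b) ^ 2 - 4 * algebraMap R K c ≠ 0 := by
    intro h0
    apply hd
    apply IsFractionRing.injective R K
    rw [map_zero, map_sub, map_pow, map_mul, map_ofNat]
    exact h0
  obtain ⟨α, β, s, h1, h2, h3, h4, h5⟩ := SigmaAlg.exists_aut_of_quadratic (Ω := Ω)
    (algebraMap R K b) (algebraMap R K c) hd' (SigmaAlg.no_root K b c hb hc hc2)
  obtain ⟨σ, hσ, hσs⟩ := exists_algEquiv_ratFunc k a W R t h K s
  refine ⟨α, β, σ, hσ, ?_, ?_, h3, ?_, ?_⟩
  · rw [h1, ← IsScalarTower.algebraMap_apply R K Ω]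
  · rw [h2, ← IsScalarTower.algebraMap_apply R K Ω]
  · rw [hσs, h4]
  · rw [hσs, h5]

end Groth.Agent.Lefpen.H621.Sigma
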