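import Mathlib.FieldTheory.IsSepClosed
import Mathlib.FieldTheory.Galois.Infinite
import Mathlib.RingTheory.DiscreteValuationRing.Basic
import Mathlib.Tactic.ComputeDegree
import Mathlib.RingTheory.Polynomial.RationalRoot

/-!
# Automorphisms of a separable closure exchanging the roots of a separable quadratic polynomial
-/

set_option autoImplicit false

universe u

namespace Groth.Agent.Lefpen.H621.SigmaAlg

open Polynomial

theorem separable_quadratic {K : Type u} [Field K] (b c : K) (hd : b ^ 2 - 4 * c ≠ 0) :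
    (X ^ 2 + C b * X + C c : K[X]).Separable := by
  have hd' : 4 * c - b ^ 2 ≠ 0 := by
    intro h
    apply hd
    linear_combination -h
  refine ⟨C (4 * (4 * c - b ^ 2)⁻¹), -(C (4 * c - b ^ 2)⁻¹ * (C 2 * X + C b)), ?_⟩
  have h1 : derivative (X ^ 2 + C b * X + C c : K[X]) = C 2 * X + C b := by
    have h0 : (C 2 : K[X]) = 2 := map_ofNat C 2
    rw [h0]
    simp
    norm_num
  have h2 : C (4 * c - b ^ 2)⁻¹ * C (4 * c - b ^ 2) = (1 : K[X]) := by
    rw [← C_mul, inv_mul_cancel₀ hd', C_1]
  have h4 : (C 4 : K[X]) = 4 := map_ofNat C 4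
  have h22 : (C 2 : K[X]) = 2 := map_ofNat C 2
  rw [h1, C_mul, h22, h4]
  rw [C_sub, C_mul, C_pow, h4] at h2
  linear_combination h2

theorem exists_aut_of_quadratic {K Ω : Type u} [Field K] [Field Ω] [Algebra K Ω] [IsSepClosure K Ω]
    (b c : K) (hd : b ^ 2 - 4 * c ≠ 0) (hroot : ∀ x : K, x ^ 2 + b * x + c ≠ 0) :
    ∃ (α β : Ω) (s : Ω ≃ₐ[K] Ω), α + β = - algebraMap K Ω b ∧ α * β = algebraMap K Ω c ∧ α ≠ β ∧
      s α = β ∧ s β = α := by
  have hsc : IsSepClosed Ω := IsSepClosure.sep_closed K
  have hgal : IsGalois K Ω := inferInstance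
  have hsep : ((X ^ 2 + C b * X + C c : K[X]).map (algebraMap K Ω)).Separable :=
    (separable_quadratic b c hd).map
  have hmap : (X ^ 2 + C b * X + C c : K[X]).map (algebraMap K Ω) =
      X ^ 2 + C (algebraMap K Ω b) * X + C (algebraMap K Ω c) := by
    simp
  have hdeg : ((X ^ 2 + C b * X + C c : K[X]).map (algebraMap K Ω)).degree ≠ 0 := by
    rw [hmap]
    have : (X ^ 2 + C (algebraMap K Ω b) * X + C (algebraMap K Ω c) : Ω[X]).degree = 2 := by
      compute_degree!
    rw [this]
    decide
  obtain ⟨α, hα⟩ := IsSepClosed.exists_root _ hdeg hsep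
  rw [hmap, IsRoot.def] at hα
  simp only [eval_add, eval_pow, eval_X, eval_mul, eval_C] at hα
  let β : Ω := - algebraMap K Ω b - α
  have hαβ : α * β = algebraMap K Ω c := by
    change α * (- algebraMap K Ω b - α) = _
    linear_combination -hα
  have hsum : α + β = - algebraMap K Ω b := by
    change α + (- algebraMap K Ω b - α) = _
    ring
  have hne : α ≠ β := by
    intro h
    apply hd
    apply (algebraMap K Ω).injective
    rw [map_zero, map_sub, map_pow, map_mul, map_ofNat]
    rw [← h] at hαβ hsum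
    have h1 : algebraMap K Ω b = - (α + α) := by rw [hsum, neg_neg]
    rw [h1, ← hαβ]
    ring
  have hex : ∃ s : Ω ≃ₐ[K] Ω, s α ≠ α := by
    by_contra hno
    push Not at hno
    obtain ⟨x, hx⟩ := (InfiniteGalois.mem_range_algebraMap_iff_fixed α).2 hno
    apply hroot x
    apply (algebraMap K Ω).injective
    rw [map_zero, map_add, map_add, map_pow, map_mul, hx]
    exact hα
  obtain ⟨s, hs⟩ := hex
  have h1 : s α ^ 2 + algebraMap K Ω b * s α + algebraMap K Ω c = 0 := by
    have := congrArg s hα
    rw [map_add, map_add, map_pow, map_mul, map_zero, s.commutes, s.commutes] at this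
    exact this
  have h2 : (s α - α) * (s α - β) = 0 := by
    have : (s α - α) * (s α - β) = s α ^ 2 - (α + β) * s α + α * β := by ring
    rw [this, hsum, hαβ, ← h1]
    ring
  have h3 : s α = β := by
    rcases mul_eq_zero.1 h2 with h | h
    · exact absurd (sub_eq_zero.1 h) hs
    · exact sub_eq_zero.1 h
  refine ⟨α, β, s, hsum, hαβ, hne, h3, ?_⟩
  have h4 : s β = - algebraMap K Ω b - s α := by
    change s (- algebraMap K Ω b - α) = _
    rw [map_sub, map_neg, s.commutes]
  rw [h4, h3]
  linear_combination -hsum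

theorem no_root {R : Type u} [CommRing R] [IsDomain R] [IsDiscreteValuationRing R] (K : Type u)
    [Field K] [Algebra R K] [IsFractionRing R K] (b c : R) (hb : b ∈ IsLocalRing.maximalIdeal R)
    (hc : c ∈ IsLocalRing.maximalIdeal R) (hc2 : c ∉ IsLocalRing.maximalIdeal R ^ 2) (x : K) :
    x ^ 2 + algebraMap R K b * x + algebraMap R K c ≠ 0 := by
  intro h
  have hint : IsIntegral R x := by
    refine ⟨X ^ 2 + C b * X + C c, ?_, ?_⟩
    · monicity!
    · simp only [eval₂_add, eval₂_pow, eval₂_X, eval₂_mul, eval₂_C]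
      exact h
  obtain ⟨y, rfl⟩ := IsIntegrallyClosed.algebraMap_eq_of_integral hint
  have h1 : y ^ 2 + b * y + c = 0 := by
    apply IsFractionRing.injective R K
    rw [map_zero, map_add, map_add, map_pow, map_mul]
    exact h
  have h2 : y ^ 2 ∈ IsLocalRing.maximalIdeal R := by
    have : y ^ 2 = - (b * y + c) := by linear_combination h1
    rw [this]
    exact neg_mem (add_mem (Ideal.mul_mem_right _ _ hb) hc)
  have h3 : y ∈ IsLocalRing.maximalIdeal R := Ideal.IsPrime.mem_of_pow_mem inferInstance 2 h2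
  apply hc2
  have h4 : c = - (y * y + b * y) := by linear_combination h1
  rw [h4, pow_two]
  exact neg_mem (add_mem (Ideal.mul_mem_mul h3 h3) (Ideal.mul_mem_mul hb h3))

end Groth.Agent.Lefpen.H621.SigmaAlg
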